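import Cfsg.Prelude.Def_QuasithinSetup
import Cfsg.Agent.QTUniq.Main
import Cfsg.Agent.QTComp.Basic
import Cfsg.Agent.PLocal.StableClosure
set_option linter.all false

/-!
# Faithful members of `ℒ(G, T)`

* `oddGenerated_of_perfect`: a perfect subgroup is generated by its elements of odd order;
* `commutator_eq_bot_of_fixed`: the `A × B` argument modulo the centralizer: a 2-group `R` and a perfect group `L`
  normalized by `R`, with `[R, L]` centralizing `V`, and `[C_V(R), L] = 1` force `[V, L] = 1`;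
* `moduleV_ne_bot_iff`: for `L` perfect and subnormal in `W ≥ T`: `V(L) ≠ 1` iff `L` acts nontrivially on
  `Ω₁(Z(O₂(W)))`;
* `calLf_up`: members of `ℒ(G, T)` above a member of `ℒ_f(G, T)` lie in `ℒ_f(G, T)`.
-/

set_option autoImplicit false

open scoped commutatorElement

namespace Cfsg.Agent.H7.Faithful

open Subgroup Cfsg Cfsg.Agent.Lib.Cores
open Cfsg.Agent.QTUniq.Local Cfsg.Agent.QTUniq.CComp Cfsg.Agent.QTUniq.Main
open Cfsg.Agent.PLocal.StableClosure

variable {G : Type*} [Group G]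

/-- A perfect subgroup of a finite group is generated by its elements of odd order. -/
theorem oddGenerated_of_perfect [Finite G] {K : Subgroup G} (hK : ⁅K, K⁆ = K) : oddGenerated K = K := by
  have h2f : Fact (Nat.Prime 2) := ⟨Nat.prime_two⟩
  set N : Subgroup G := oddGenerated K with hN
  have hNK : N ≤ K := (closure_le K).2 fun x hx => hx.1
  have hn : K ≤ normalizer (N : Set G) := by
    have key : ∀ g ∈ K, N ≤ N.comap (MulAut.conj g).toMonoidHom := by
      intro g hg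
      rw [hN, oddGenerated, closure_le]
      rintro x ⟨hx, ho⟩
      refine subset_closure ⟨K.mul_mem (K.mul_mem hg hx) (K.inv_mem hg), ?_⟩
      have h1 : orderOf (g * x * g⁻¹) = orderOf x :=
        orderOf_injective (MulAut.conj g).toMonoidHom (MulAut.conj g).injective x
      change Odd (orderOf (g * x * g⁻¹))
      rw [h1]; exact ho
    intro g hg
    rw [mem_normalizer_iff]
    intro x
    refine ⟨fun hx => key g hg hx, fun hx => ?_⟩
    have h1 := key g⁻¹ (K.inv_mem hg) hx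
    have h2 : g⁻¹ * (g * x * g⁻¹) * g⁻¹⁻¹ = x := by group
    have h3 : g⁻¹ * (g * x * g⁻¹) * g⁻¹⁻¹ ∈ N := h1
    rwa [h2] at h3
  have hnn : (N.subgroupOf K).Normal := (normal_subgroupOf_iff_le_normalizer hNK).2 hn
  have hp : IsPGroup 2 (↥K ⧸ N.subgroupOf K) := by
    intro q
    obtain ⟨x, rfl⟩ := QuotientGroup.mk_surjective q
    obtain ⟨n, m, hm, hnm⟩ := Nat.exists_eq_pow_mul_and_not_dvd (orderOf_pos x).ne' 2 (by norm_num)
    refine ⟨n, ?_⟩
    rw [← QuotientGroup.mk_pow, QuotientGroup.eq_one_iff, mem_subgroupOf]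
    refine subset_closure ⟨(x ^ 2 ^ n).2, ?_⟩
    rw [orderOf_coe, orderOf_pow_of_dvd (pow_ne_zero _ (by norm_num)) ⟨m, hnm⟩, hnm,
      Nat.mul_div_cancel_left _ (pow_pos (by norm_num) n)]
    exact Nat.odd_iff.2 (by omega)
  have hs : Group.IsSolvable (↥K ⧸ N.subgroupOf K) := by
    have := hp.isNilpotent
    infer_instance
  have hKp : ⁅(⊤ : Subgroup ↥K), (⊤ : Subgroup ↥K)⁆ = ⊤ := by
    have := Cfsg.Agent.QTComp.Basic.perfect_subgroupOf hK (le_refl K)
    rwa [subgroupOf_self] at this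
  have h4 : (⊤ : Subgroup ↥K) ≤ (QuotientGroup.mk' (N.subgroupOf K)).ker := by
    refine Cfsg.Agent.TwoFusion.PerfCore.le_ker_of_perfect hKp _ ?_
    infer_instance
  rw [QuotientGroup.ker_mk', top_le_iff, subgroupOf_eq_top] at h4
  exact le_antisymm hNK h4

/-- If `V` is normalized by the 2-group `R ≥ V` and `C < V` is normalized by `R`, some element of `V` outside `C` is
fixed by `R` modulo `C`. -/
theorem exists_fixed_mod [Finite G] {p : ℕ} [Fact p.Prime] {R V C : Subgroup G} (hR : IsPGroup p R)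
    (hVR : V ≤ R) (hRV : R ≤ normalizer (V : Set G)) (hVC : ¬ V ≤ C) :
    ∃ N : Subgroup G, N ≤ V ∧ R ≤ normalizer (N : Set G) ∧ ¬ N ≤ C ∧ ⁅N, R⁆ ≤ C := by
  classical
  have hfin : Set.Finite {N : Subgroup G | N ≤ V ∧ R ≤ normalizer (N : Set G) ∧ ¬ N ≤ C} := Set.toFinite _
  obtain ⟨N, hN⟩ := hfin.exists_minimal ⟨V, le_rfl, hRV, hVC⟩
  obtain ⟨h1, h2, h3⟩ := hN.prop
  refine ⟨N, h1, h2, h3, ?_⟩
  by_contra h4
  have h5 : ⁅N, R⁆ ≤ N := by
    rw [commutator_le]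
    intro a ha b hb
    rw [commutatorElement_def]
    have h6 : a * b * a⁻¹ * b⁻¹ = a * (b * a⁻¹ * b⁻¹) := by group
    rw [h6]
    exact N.mul_mem ha ((mem_normalizer_iff.1 (h2 hb) _).1 (N.inv_mem ha))
  have h6 : R ≤ normalizer ((⁅N, R⁆ : Subgroup G) : Set G) := normalizer_commutator_ge_right _ _
  have h7 : N ≤ ⁅N, R⁆ := hN.2 ⟨h5.trans h1, h6, h4⟩ h5
  have h8 : ⁅N, R⁆ = N := le_antisymm h5 h7
  -- `N = [N, R]` forces `N = 1`
  have hnil : Group.IsNilpotent ↥R := hR.isNilpotent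
  have key : ∀ n : ℕ, N.subgroupOf R ≤ (⊤ : Subgroup ↥R).lowerCentralSeries n := by
    intro n
    induction n with
    | zero => exact le_top
    | succ n ih =>
      have h9 : ⁅N.subgroupOf R, (⊤ : Subgroup ↥R)⁆ = N.subgroupOf R := by
        apply map_injective R.subtype_injective
        rw [map_commutator, subgroupOf_map_subtype, inf_of_le_left (h1.trans hVR), ← MonoidHom.range_eq_map,
          range_subtype, h8]
      rw [← h9]
      exact commutator_mono ih le_rfl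
  obtain ⟨n, hn⟩ := (Subgroup.nilpotent_iff_lowerCentralSeries (G := ↥R)).1 hnil
  have h10 := key n
  rw [hn, le_bot_iff, subgroupOf_eq_bot] at h10
  apply h3
  intro x hx
  have h11 : x = 1 := by
    have := (disjoint_def.1 h10) hx (hVR (h1 hx))
    exact this
  rw [h11]; exact C.one_mem

/-- The `A × B` argument modulo centralizers. -/
theorem commutator_eq_bot_of_fixed [Finite G] {p : ℕ} [Fact p.Prime] {R V L : Subgroup G} (hR : IsPGroup p R)
    (hVR : V ≤ R) (hRV : R ≤ normalizer (V : Set G)) (hLV : L ≤ normalizer (V : Set G))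
    (hRL : R ≤ normalizer (L : Set G)) (hp : ⁅L, L⁆ = L) (hc : ⁅⁅R, L⁆, V⁆ = ⊥)
    (h : ⁅V ⊓ centralizer (R : Set G), L⁆ = ⊥) : ⁅V, L⁆ = ⊥ := by
  rw [commutator_eq_bot_iff_le_centralizer]
  by_contra hno
  set C : Subgroup G := centralizer (L : Set G) with hC
  obtain ⟨N, hNV, hRN, hNC, hcomm⟩ := exists_fixed_mod (C := C) hR hVR hRV hno
  -- `[N, R, L] = 1` and `[R, L, N] = 1`, so `[L, N, R] = 1`
  have h1 : ⁅⁅N, R⁆, L⁆ = ⊥ := by
    rw [commutator_eq_bot_iff_le_centralizer]; exact hcomm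
  have h2 : ⁅⁅R, L⁆, N⁆ = ⊥ := by
    rw [eq_bot_iff, ← hc]; exact commutator_mono le_rfl hNV
  have h3 : ⁅⁅L, N⁆, R⁆ = ⊥ := commutator_commutator_eq_bot_of_rotate h1 h2
  have h4 : ⁅L, N⁆ ≤ V ⊓ centralizer (R : Set G) := by
    refine le_inf ?_ (by rwa [← commutator_eq_bot_iff_le_centralizer])
    rw [commutator_le]
    intro a ha b hb
    rw [commutatorElement_def]
    exact V.mul_mem ((mem_normalizer_iff.1 (hLV ha) _).1 (hNV hb)) (V.inv_mem (hNV hb))
  have h5 : ⁅⁅L, N⁆, L⁆ = ⊥ := by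
    rw [eq_bot_iff, ← h]; exact commutator_mono h4 le_rfl
  have h6 : ⁅⁅N, L⁆, L⁆ = ⊥ := by rw [commutator_comm N L]; exact h5
  have h7 : ⁅⁅L, L⁆, N⁆ = ⊥ := commutator_commutator_eq_bot_of_rotate h5 h6
  rw [hp, commutator_comm, commutator_eq_bot_iff_le_centralizer] at h7
  exact hNC h7

/-- If `[V, L, L] = 1` with `L` perfect then `[V, L] = 1`. -/
theorem commutator_eq_bot_of_perfect {V L : Subgroup G} (hp : ⁅L, L⁆ = L) (h : ⁅⁅V, L⁆, L⁆ = ⊥) : ⁅V, L⁆ = ⊥ := by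
  have h1 : ⁅⁅L, V⁆, L⁆ = ⊥ := by rw [commutator_comm L V]; exact h
  have h2 : ⁅⁅L, L⁆, V⁆ = ⊥ := commutator_commutator_eq_bot_of_rotate h1 h
  rw [hp] at h2
  rw [commutator_comm]; exact h2

/-- the centre of `U` is commutative -/
theorem comm_center (U : Subgroup G) :
    ∀ a ∈ U ⊓ centralizer (U : Set G), ∀ b ∈ U ⊓ centralizer (U : Set G), a * b = b * a :=
  fun _ ha _ hb => (mem_centralizer_iff.1 hb.2) _ ha.1

/-- `Ω₁(Z(U))` -/
def omZ (U : Subgroup G) : Subgroup G := omegaOne 2 (U ⊓ centralizer (U : Set G))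

theorem mem_omZ {U : Subgroup G} {x : G} :
    x ∈ omZ U ↔ (x ∈ U ∧ x ∈ centralizer (U : Set G)) ∧ x ^ 2 = 1 :=
  mem_omegaOne_iff_of_comm (comm_center U)

theorem omZ_le (U : Subgroup G) : omZ U ≤ U := fun _ hx => (mem_omZ.1 hx).1.1

theorem omZ_le_centralizer (U : Subgroup G) : omZ U ≤ centralizer (U : Set G) := fun _ hx => (mem_omZ.1 hx).1.2

theorem normalizer_le_omZ (U : Subgroup G) : normalizer (U : Set G) ≤ normalizer (omZ U : Set G) := by
  have key : ∀ g ∈ normalizer (U : Set G), ∀ x ∈ omZ U, g * x * g⁻¹ ∈ omZ U := by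
    intro g hg x hx
    obtain ⟨⟨h1, h2⟩, h3⟩ := mem_omZ.1 hx
    refine mem_omZ.2 ⟨⟨(mem_normalizer_iff.1 hg x).1 h1, ?_⟩, ?_⟩
    · rw [mem_centralizer_iff]
      intro y hy
      have h4 : g⁻¹ * y * g ∈ U := by
        have := (mem_normalizer_iff.1 (inv_mem hg) y).1 hy
        simpa using this
      have h5 := (mem_centralizer_iff.1 h2) _ h4
      have e1 : y * (g * x * g⁻¹) = g * ((g⁻¹ * y * g) * x) * g⁻¹ := by group
      have e2 : g * x * g⁻¹ * y = g * (x * (g⁻¹ * y * g)) * g⁻¹ := by group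
      rw [e1, e2, h5]
    · rw [conj_pow, h3]; group
  intro g hg
  rw [mem_normalizer_iff]
  intro x
  refine ⟨key g hg x, fun hx => ?_⟩
  have h1 := key g⁻¹ (inv_mem hg) _ hx
  have h2 : g⁻¹ * (g * x * g⁻¹) * g⁻¹⁻¹ = x := by group
  rwa [h2] at h1

/-- `O_2(W)` normalizes a perfect subgroup `L` subnormal in `W`. -/
theorem pCore_le_normalizer [Finite G] {p : ℕ} [Fact p.Prime] {L W : Subgroup G} (hLW : L ≤ W) (hp : ⁅L, L⁆ = L)
    (hs : (L.subgroupOf W).IsSubnormal) : (pCore p ↥W).map W.subtype ≤ normalizer (L : Set G) := by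
  have hsol : Group.IsSolvable ↥(pCore p ↥W) := by
    have := (pCore_isPGroup (G := ↥W) p).isNilpotent
    infer_instance
  have hn : (pCore p ↥W).Normal := Cfsg.Agent.Lib.Cores.pCore_normal p
  have key : ∀ r ∈ pCore p ↥W, ∀ x ∈ L.subgroupOf W, r * x * r⁻¹ ∈ L.subgroupOf W := by
    intro r hr
    have h1 : (L.subgroupOf W).map (MulAut.conj r).toMonoidHom ≤ L.subgroupOf W := by
      refine Cfsg.Agent.QTComp.Basic.le_of_le_sup (S := pCore p ↥W) hs hsol
        (Cfsg.Agent.QTComp.Basic.perfect_map _ (Cfsg.Agent.QTComp.Basic.perfect_subgroupOf hp hLW)) ?_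
      rintro _ ⟨x, hx, rfl⟩
      change r * x * r⁻¹ ∈ _
      exact mul_mem (mul_mem (mem_sup_right hr) (mem_sup_left hx)) (inv_mem (mem_sup_right hr))
    intro x hx
    exact h1 ⟨x, hx, rfl⟩
  rintro _ ⟨r, hr, rfl⟩
  rw [mem_normalizer_iff]
  intro x
  constructor
  · intro hx
    exact key r hr ⟨x, hLW hx⟩ hx
  · intro hx
    have h1 := key r⁻¹ (inv_mem hr) ⟨_, hLW hx⟩ hx
    have h2 : ((r : G)⁻¹ * ((r : G) * x * (r : G)⁻¹) * (r : G)⁻¹⁻¹) ∈ L := h1
    have h3 : ((r : G)⁻¹ * ((r : G) * x * (r : G)⁻¹) * (r : G)⁻¹⁻¹) = x := by group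
    rwa [h3] at h2

/-- `O_2(L) = L ∩ O_2(W)` for `L` subnormal in `W`, inside `G` -/
theorem pCoreOf_eq {p : ℕ} {L W : Subgroup G} (hLW : L ≤ W)
    (hs : (L.subgroupOf W).IsSubnormal) :
    (pCore p ↥L).map L.subtype = L ⊓ (pCore p ↥W).map W.subtype := by
  have h1 := Cfsg.Agent.SignalizersComponents.CompBasic.map_subtype_pCore_of_subnormal p hs
  let e : ↥(L.subgroupOf W) ≃* ↥L := subgroupOfEquivOfLe hLW
  have h2 : (pCore p ↥(L.subgroupOf W)).map e.toMonoidHom = pCore p ↥L := map_equiv_pCore e p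
  rw [← h2, Subgroup.map_map]
  have h3 := congrArg (Subgroup.map W.subtype) h1
  rw [Subgroup.map_map] at h3
  have h4 : L.subtype.comp e.toMonoidHom = W.subtype.comp (L.subgroupOf W).subtype := by
    ext x; rfl
  rw [h4, h3]
  ext x
  constructor
  · rintro ⟨y, ⟨hy1, hy2⟩, rfl⟩
    exact ⟨hy1, ⟨y, hy2, rfl⟩⟩
  · rintro ⟨hx1, ⟨y, hy, hyx⟩⟩
    refine ⟨y, ⟨?_, hy⟩, hyx⟩
    change (y : G) ∈ L
    have h5 : (y : G) = x := hyx
    rw [h5]; exact hx1

/-- **`V(L) ≠ 1` if and only if `L` acts nontrivially on `Ω₁(Z(O₂(W)))`**, for `L` perfect and subnormal in `W`. -/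
theorem moduleV_eq_bot_iff [Finite G] {L W : Subgroup G} (hLW : L ≤ W) (hp : ⁅L, L⁆ = L)
    (hs : (L.subgroupOf W).IsSubnormal) :
    moduleV L = ⊥ ↔ ⁅omZ ((pCore 2 ↥W).map W.subtype), L⁆ = ⊥ := by
  have h2f : Fact (Nat.Prime 2) := ⟨Nat.prime_two⟩
  set R : Subgroup G := (pCore 2 ↥W).map W.subtype with hR
  have hRp : IsPGroup 2 ↥R := map_pCore_isPGroup 2 W
  have hWR : W ≤ normalizer (R : Set G) := le_normalizer_map_pCore 2 W
  have hRL : R ≤ normalizer (L : Set G) := pCore_le_normalizer hLW hp hs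
  have hOL : pCoreTwoOf L = L ⊓ R := pCoreOf_eq hLW hs
  have hOLR : pCoreTwoOf L ≤ R := hOL.le.trans inf_le_right
  have hcomm : ⁅R, L⁆ ≤ pCoreTwoOf L := by
    rw [hOL]
    refine le_inf ?_ ?_
    · rw [commutator_le]
      intro a ha b hb
      rw [commutatorElement_def]
      exact L.mul_mem ((mem_normalizer_iff.1 (hRL ha) _).1 hb) (L.inv_mem hb)
    · rw [commutator_le]
      intro a ha b hb
      rw [commutatorElement_def]
      have h6 : a * b * a⁻¹ * b⁻¹ = a * (b * a⁻¹ * b⁻¹) := by group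
      rw [h6]
      exact R.mul_mem ha ((mem_normalizer_iff.1 (hWR (hLW hb)) _).1 (R.inv_mem ha))
  have hmod : moduleV L = ⁅omZ (pCoreTwoOf L), L⁆ := rfl
  rw [hmod]
  -- `R` and `L` normalize `O_2(L)`
  have hLO : L ≤ normalizer (pCoreTwoOf L : Set G) := le_normalizer_map_pCore 2 L
  have hRO : R ≤ normalizer (pCoreTwoOf L : Set G) := by
    intro r hr
    have key : ∀ g ∈ R, ∀ x ∈ pCoreTwoOf L, g * x * g⁻¹ ∈ pCoreTwoOf L := by
      intro g hg x hx
      rw [hOL] at hx ⊢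
      exact ⟨(mem_normalizer_iff.1 (hRL hg) x).1 hx.1, R.mul_mem (R.mul_mem hg hx.2) (R.inv_mem hg)⟩
    rw [mem_normalizer_iff]
    intro x
    refine ⟨key r hr x, fun hx => ?_⟩
    have h1 := key r⁻¹ (inv_mem hr) _ hx
    have h2 : r⁻¹ * (r * x * r⁻¹) * r⁻¹⁻¹ = x := by group
    rwa [h2] at h1
  constructor
  · intro h
    -- `[Ω₁(Z(R)), L] ≤ Ω₁(Z(O_2(L)))`
    refine commutator_eq_bot_of_perfect hp ?_
    rw [eq_bot_iff, ← h]
    refine commutator_mono ?_ le_rfl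
    have h1 : ⁅omZ R, L⁆ ≤ omZ R := by
      rw [commutator_le]
      intro a ha b hb
      rw [commutatorElement_def]
      have h6 : a * b * a⁻¹ * b⁻¹ = a * (b * a⁻¹ * b⁻¹) := by group
      rw [h6]
      exact (omZ R).mul_mem ha ((mem_normalizer_iff.1 (normalizer_le_omZ R (hWR (hLW hb))) _).1
        ((omZ R).inv_mem ha))
    have h2 : ⁅omZ R, L⁆ ≤ pCoreTwoOf L := (commutator_mono (omZ_le R) le_rfl).trans hcomm
    intro x hx
    obtain ⟨⟨h3, h4⟩, h5⟩ := mem_omZ.1 (h1 hx)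
    exact mem_omZ.2 ⟨⟨h2 hx, centralizer_le (show (pCoreTwoOf L : Set G) ⊆ R from hOLR) h4⟩, h5⟩
  · intro h
    refine commutator_eq_bot_of_fixed (p := 2) (R := R) hRp ((omZ_le _).trans hOLR)
      (hRO.trans (normalizer_le_omZ _)) (hLO.trans (normalizer_le_omZ _)) hRL hp ?_ ?_
    · rw [commutator_comm, commutator_eq_bot_iff_le_centralizer]
      exact (omZ_le_centralizer _).trans (centralizer_le hcomm)
    · rw [eq_bot_iff, ← h]
      refine commutator_mono ?_ le_rfl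
      rintro x ⟨hx1, hx2⟩
      obtain ⟨⟨h3, h4⟩, h5⟩ := mem_omZ.1 hx1
      exact mem_omZ.2 ⟨⟨hOLR h3, hx2⟩, h5⟩

/-- A member of `ℒ(G, T)` lies in `𝒳`, in even characteristic. -/
theorem mem_calX [Finite G] (hE : IsOfEvenCharacteristic G) (T : Sylow 2 G) {K : Subgroup G}
    (hK : K ∈ calL (T : Subgroup G)) : K ∈ calX G := by
  have hle : K ≤ K ⊔ (T : Subgroup G) := le_sup_left
  have h1 := (mem_calC_iff hle).1 hK.1
  exact ⟨h1.1, oddGenerated_of_perfect h1.2.1, genFitting_eq hE T hK⟩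

/-- **Members of `ℒ(G, T)` above a member of `ℒ_f(G, T)` are in `ℒ_f(G, T)`.** -/
theorem calLf_up [Finite G] (hE : IsOfEvenCharacteristic G) (T : Sylow 2 G) {L K : Subgroup G}
    (hL : L ∈ calLf (T : Subgroup G)) (hK : K ∈ calL (T : Subgroup G)) (hLK : L ≤ K) :
    K ∈ calLf (T : Subgroup G) := by
  refine ⟨hK, mem_calX hE T hK, fun h => hL.2.2 ?_⟩
  set WL : Subgroup G := L ⊔ (T : Subgroup G) with hWL
  set WK : Subgroup G := K ⊔ (T : Subgroup G) with hWK
  have hLW : L ≤ WL := le_sup_left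
  have hKW : K ≤ WK := le_sup_left
  have hTL : (T : Subgroup G) ≤ WL := le_sup_right
  have hTK : (T : Subgroup G) ≤ WK := le_sup_right
  have hW : WL ≤ WK := sup_le_sup_right hLK _
  have h1 := (mem_calC_iff hLW).1 hL.1.1
  have h2 := (mem_calC_iff hKW).1 hK.1
  rw [moduleV_eq_bot_iff hKW h2.2.1 h2.2.2.1] at h
  rw [moduleV_eq_bot_iff hLW h1.2.1 h1.2.2.1]
  rw [eq_bot_iff, ← h]
  refine commutator_mono ?_ hLK
  -- `Ω₁(Z(R)) ≤ Ω₁(Z(Q))`
  have hQR := map_pCore_anti T hTL hW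
  have hchar := charTwo_of_over hE T (X := WK) hTK hK.2.2
  intro x hx
  obtain ⟨⟨h3, h4⟩, h5⟩ := mem_omZ.1 hx
  have h6 : x ∈ centralizer (((pCore 2 ↥WK).map WK.subtype : Subgroup G) : Set G) :=
    centralizer_le (show (((pCore 2 ↥WK).map WK.subtype : Subgroup G) : Set G) ⊆
      ((pCore 2 ↥WL).map WL.subtype : Subgroup G) from hQR) h4
  refine mem_omZ.2 ⟨⟨?_, h6⟩, h5⟩
  have hxW : x ∈ WK := hW (map_subtype_le _ h3)
  have h7 : (⟨x, hxW⟩ : ↥WK) ∈ centralizer (pCore 2 ↥WK : Set ↥WK) := by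
    rw [mem_centralizer_iff]
    intro y hy
    apply Subtype.ext
    exact (mem_centralizer_iff.1 h6) _ ⟨y, hy, rfl⟩
  exact ⟨_, hchar h7, rfl⟩

end Cfsg.Agent.H7.Faithful
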