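import Cfsg.Agent.J4Type.DuadCent
import Cfsg.Agent.KFacts.M24Two.Orders
import Cfsg.Agent.H7.Faithful
import Cfsg.Agent.J4Type.Aut22
import Cfsg.Agent.S0364
import Cfsg.Agent.FastGrp
import Cfsg.Agent.Prune
set_option linter.all false
prune_inst 0x7f00000000000000000000000000000000000000000000000000000000000000000000000000000000000000000000000000000000000000000000000000000000000000000000000000000000000000003fffffffffffffffffffffffffffbeffbdffffffff
open scoped Cfsg.Agent.FastGrp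

-- part: H7/J4Mod
section
/-!
# The even cocode as a module for 2-subgroups of `M24` (helper7)

`S a x = {x} + {a x}`.

* `nine_le`: for an involution `a` of `M24` the sets `S a x` take at least 9 values;
* `card_le`: a 2-subgroup `B` of `C(a)` with `S a (g x) = S a x` for all `g ∈ B`, `a` an involution with a fixed point,
  has order at most 16, and its elements other than `1`, `a` fix no fixed point of `a`;
* `fixed_of_central`: an involution of `M24` centralized by a subgroup of order `2^10` has a fixed point.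
-/

set_option autoImplicit false

namespace Cfsg.Agent.H7.J4Mod

open Cfsg Subgroup Cfsg.Agent.J4Type Cfsg.Agent.J4Type.FusionM22
open scoped Pointwise

theorem eq_one_of_nine : ∀ (k : ℕ) {g : Equiv.Perm GolayPt}, g ∈ M24 → g ^ 2 ^ k = 1 →
    9 ≤ (Finset.univ.filter fun p : GolayPt => g p = p).card → g = 1
  | 0, g, _, hk, _ => by simpa using hk
  | k + 1, g, hM, hk, h9 => by
    have h1 : g * g = 1 := by
      refine eq_one_of_nine k (mul_mem hM hM) ?_ (h9.trans (Finset.card_le_card fun p hp => ?_))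
      · rw [← pow_two, ← pow_mul, ← pow_succ']; exact hk
      · rw [Finset.mem_filter] at hp ⊢
        refine ⟨hp.1, ?_⟩
        rw [Equiv.Perm.mul_apply, hp.2, hp.2]
    by_contra hne
    have := DuadM24.card_fix_le hM h1 hne
    omega

/-! ### the sets `{x} + {a x}` -/

/-- `{x} + {a x}` -/
def S (a : Equiv.Perm GolayPt) (x : GolayPt) : Finset GolayPt := symmDiff {x} {a x}

theorem S_even (a : Equiv.Perm GolayPt) (x : GolayPt) : Even (S a x).card := CloseInst.even_pair _ _

theorem S_eq_empty {a : Equiv.Perm GolayPt} {x : GolayPt} : S a x = ∅ ↔ a x = x := by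
  unfold S
  constructor
  · intro h
    have h1 : ({x} : Finset GolayPt) = {a x} := symmDiff_eq_bot.1 h
    exact (Finset.singleton_injective h1).symm
  · intro h
    rw [h]
    exact symmDiff_self _

theorem mem_S {a : Equiv.Perm GolayPt} {x y : GolayPt} : y ∈ S a x ↔ (y = x ∧ y ≠ a x) ∨ (y = a x ∧ y ≠ x) := by
  unfold S
  rw [Finset.mem_symmDiff, Finset.mem_singleton, Finset.mem_singleton]

theorem self_mem_S {a : Equiv.Perm GolayPt} {x : GolayPt} (h : a x ≠ x) : x ∈ S a x :=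
  mem_S.2 (Or.inl ⟨rfl, h.symm⟩)

theorem S_card_le (a : Equiv.Perm GolayPt) (x : GolayPt) : (S a x).card ≤ 2 := by
  have h1 : S a x ⊆ {x} ∪ {a x} := Finset.symmDiff_subset_union
  refine (Finset.card_le_card h1).trans ((Finset.card_union_le _ _).trans ?_)
  simp

theorem eq_or_of_S_eq {a : Equiv.Perm GolayPt} {x y : GolayPt} (hx : a x ≠ x) (h : S a y = S a x) :
    y = x ∨ y = a x := by
  have hy : a y ≠ y := by
    intro h1
    rw [S_eq_empty.2 h1] at h
    exact hx (S_eq_empty.1 h.symm)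
  have h1 := self_mem_S hy
  rw [h, mem_S] at h1
  rcases h1 with h1 | h1
  · exact Or.inl h1.1
  · exact Or.inr h1.1

theorem smul_S {a g : Equiv.Perm GolayPt} (h : g * a = a * g) (x : GolayPt) : g • S a x = S a (g x) := by
  unfold S
  rw [Finset.smul_finset_symmDiff, Finset.smul_finset_singleton, Finset.smul_finset_singleton]
  congr 2
  show g (a x) = a (g x)
  rw [← Equiv.Perm.mul_apply, h]; rfl

theorem card_le_image {a : Equiv.Perm GolayPt} {s : Finset GolayPt} (hs : ∀ x ∈ s, a x ≠ x) :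
    s.card ≤ 2 * (s.image (S a)).card := by
  refine Finset.card_le_mul_card_image s 2 ?_
  intro t ht
  obtain ⟨x, hx, rfl⟩ := Finset.mem_image.1 ht
  have h1 : (s.filter fun y => S a y = S a x) ⊆ {x, a x} := by
    intro y hy
    rw [Finset.mem_filter] at hy
    rw [Finset.mem_insert, Finset.mem_singleton]
    exact eq_or_of_S_eq (hs x hx) hy.2
  exact (Finset.card_le_card h1).trans Finset.card_le_two

/-- at least nine values -/
theorem nine_le {a : Equiv.Perm GolayPt} (hM : a ∈ M24) (ha : a * a = 1) (h1 : a ≠ 1) :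
    9 ≤ (Finset.univ.image (S a)).card := by
  have hfix := DuadM24.card_fix_le hM ha h1
  have hsum := Finset.card_filter_add_card_filter_not (s := (Finset.univ : Finset GolayPt)) (fun p => a p = p)
  have h24 : (Finset.univ : Finset GolayPt).card = 24 := by decide +kernel
  rw [h24] at hsum
  set s : Finset GolayPt := Finset.univ.filter fun p : GolayPt => ¬ a p = p with hs
  have h2 := card_le_image (a := a) (s := s) (fun x hx => (Finset.mem_filter.1 hx).2)
  by_cases hex : ∃ p, a p = p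
  · obtain ⟨p, hp⟩ := hex
    have h3 : insert ∅ (s.image (S a)) ⊆ Finset.univ.image (S a) := by
      rw [Finset.insert_subset_iff]
      exact ⟨Finset.mem_image.2 ⟨p, Finset.mem_univ _, S_eq_empty.2 hp⟩,
        Finset.image_subset_image (Finset.subset_univ _)⟩
    have h4 : (∅ : Finset GolayPt) ∉ s.image (S a) := by
      intro h
      obtain ⟨x, hx, hx2⟩ := Finset.mem_image.1 h
      exact (Finset.mem_filter.1 hx).2 (S_eq_empty.1 hx2)
    have h5 := Finset.card_le_card h3
    rw [Finset.card_insert_of_notMem h4] at h5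
    omega
  · push Not at hex
    have h3 : (Finset.univ.filter fun p : GolayPt => a p = p) = ∅ := Finset.filter_false_of_mem fun p _ => hex p
    have h4 := Finset.card_le_card (Finset.image_subset_image (f := S a) (Finset.subset_univ s))
    rw [h3, Finset.card_empty] at hsum
    omega

/-! ### the subgroup fixing the pairs -/

section Pairs

variable {a : Equiv.Perm GolayPt} (hM : a ∈ M24) (ha : a * a = 1) (h1 : a ≠ 1)

include hM ha h1

/-- an element of `B` fixing a fixed point of `a` is `1` or `a` -/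
theorem eq_of_fix {p₀ : GolayPt} (hp₀ : a p₀ = p₀) {g : Equiv.Perm GolayPt} (hg : g ∈ M24) {k : ℕ}
    (hk : g ^ 2 ^ k = 1) (hga : g * a = a * g) (hS : ∀ x, S a (g x) = S a x) (hgp : g p₀ = p₀) :
    g = 1 ∨ g = a := by
  have haa : ∀ x, a (a x) = x := fun x => by rw [← Equiv.Perm.mul_apply, ha]; rfl
  have hfixa := card_fix hM ha h1 hp₀
  have h24 : (Finset.univ : Finset GolayPt).card = 24 := by decide +kernel
  have hsum := Finset.card_filter_add_card_filter_not (s := (Finset.univ : Finset GolayPt)) (fun p => a p = p)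
  rw [h24, hfixa] at hsum
  -- on moved points
  have hmv : ∀ x, a x ≠ x → g x = x ∨ g x = a x := fun x hx => eq_or_of_S_eq hx (hS x)
  have hgg : g * g = 1 := by
    refine eq_one_of_nine k (mul_mem hg hg) ?_ ?_
    · rw [← pow_two, ← pow_mul, mul_comm, pow_mul, hk, one_pow]
    · have h2 : (Finset.univ.filter fun p : GolayPt => ¬ a p = p) ⊆
          Finset.univ.filter fun p : GolayPt => (g * g) p = p := by
        intro x hx
        rw [Finset.mem_filter] at hx ⊢
        refine ⟨hx.1, ?_⟩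
        rw [Equiv.Perm.mul_apply]
        rcases hmv x hx.2 with h | h
        · rw [h, h]
        · have h3 : g (a x) = a (g x) := by
            rw [← Equiv.Perm.mul_apply, hga]; rfl
          rw [h, h3, h, haa]
      have h3 := Finset.card_le_card h2
      omega
  by_cases hg1 : g = 1
  · exact Or.inl hg1
  right
  by_contra hne
  have hag1 : a * g ≠ 1 := by
    intro h
    apply hne
    have h2 : g = a⁻¹ := (inv_eq_of_mul_eq_one_right h).symm
    have h3 : a⁻¹ = a := inv_eq_of_mul_eq_one_left ha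
    rw [h2, h3]
  have hag : (a * g) * (a * g) = 1 := by
    calc (a * g) * (a * g) = a * (g * a) * g := by group
      _ = a * (a * g) * g := by rw [hga]
      _ = (a * a) * (g * g) := by group
      _ = 1 := by rw [ha, hgg, one_mul]
  have hf1 := card_fix hg hgg hg1 hgp
  have hf2 := card_fix (mul_mem hM hg) hag hag1 (p₀ := p₀) (by rw [Equiv.Perm.mul_apply, hgp, hp₀])
  have hcov : insert p₀ (Finset.univ.filter fun p : GolayPt => ¬ a p = p) ⊆
      (Finset.univ.filter fun p : GolayPt => g p = p) ∪ ((Finset.univ.filter fun p : GolayPt => (a * g) p = p).erase p₀) := by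
    intro x hx
    rw [Finset.mem_insert, Finset.mem_filter] at hx
    rw [Finset.mem_union, Finset.mem_filter, Finset.mem_erase, Finset.mem_filter]
    rcases hx with rfl | hx
    · exact Or.inl ⟨Finset.mem_univ _, hgp⟩
    · rcases hmv x hx.2 with h | h
      · exact Or.inl ⟨Finset.mem_univ _, h⟩
      · refine Or.inr ⟨?_, Finset.mem_univ _, ?_⟩
        · rintro rfl
          exact hx.2 hp₀
        · rw [Equiv.Perm.mul_apply, h, haa]
  have hc := Finset.card_le_card hcov
  have h2 : p₀ ∉ (Finset.univ.filter fun p : GolayPt => ¬ a p = p) := by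
    rw [Finset.mem_filter]
    exact fun h => h.2 hp₀
  rw [Finset.card_insert_of_notMem h2] at hc
  have h3 := Finset.card_union_le (Finset.univ.filter fun p : GolayPt => g p = p)
    ((Finset.univ.filter fun p : GolayPt => (a * g) p = p).erase p₀)
  have h4 : p₀ ∈ (Finset.univ.filter fun p : GolayPt => (a * g) p = p) := by
    rw [Finset.mem_filter]
    exact ⟨Finset.mem_univ _, by rw [Equiv.Perm.mul_apply, hgp, hp₀]⟩
  rw [Finset.card_erase_of_mem h4, hf1, hf2] at h3
  omega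

/-- `|B| ≤ 16` -/
theorem card_le {p₀ : GolayPt} (hp₀ : a p₀ = p₀) (B : Subgroup (Equiv.Perm GolayPt)) (hB : B ≤ M24)
    (hB2 : IsPGroup 2 ↥B) (hBa : ∀ g ∈ B, g * a = a * g) (hS : ∀ g ∈ B, ∀ x, S a (g x) = S a x) :
    Nat.card ↥B ≤ 16 := by
  classical
  have hfixa := card_fix hM ha h1 hp₀
  have hpow : ∀ g ∈ B, ∃ k : ℕ, g ^ 2 ^ k = 1 := by
    intro g hg
    obtain ⟨k, hk⟩ := hB2 ⟨g, hg⟩
    exact ⟨k, congrArg Subtype.val hk⟩
  -- the stabilizer
  have hst : Nat.card ↥(MulAction.stabilizer ↥B p₀) ≤ 2 := by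
    have h2 : ∀ x : ↥(MulAction.stabilizer ↥B p₀), ((x : ↥B) : Equiv.Perm GolayPt) ∈ ({1, a} : Finset (Equiv.Perm GolayPt)) := by
      rintro ⟨⟨g, hg⟩, hgs⟩
      obtain ⟨k, hk⟩ := hpow g hg
      rw [Finset.mem_insert, Finset.mem_singleton]
      exact eq_of_fix hM ha h1 hp₀ (hB hg) hk (hBa g hg) (hS g hg) hgs
    have h3 : Nat.card ↥(MulAction.stabilizer ↥B p₀) ≤ Nat.card ↥({1, a} : Finset (Equiv.Perm GolayPt)) := by
      refine Nat.card_le_card_of_injective (fun x => ⟨_, h2 x⟩) ?_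
      intro x y hxy
      exact Subtype.ext (Subtype.ext (congrArg (fun z : ↥({1, a} : Finset (Equiv.Perm GolayPt)) => (z : Equiv.Perm GolayPt)) hxy))
    refine h3.trans ?_
    rw [Nat.card_eq_fintype_card, Fintype.card_coe]
    exact Finset.card_le_two
  have horb : Nat.card ↥(MulAction.orbit ↥B p₀) ≤ 8 := by
    have h2 : MulAction.orbit ↥B p₀ ⊆ ((Finset.univ.filter fun p : GolayPt => a p = p : Finset GolayPt) : Set GolayPt) := by
      rintro _ ⟨⟨g, hg⟩, rfl⟩
      rw [Finset.coe_filter]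
      refine ⟨Finset.mem_univ _, ?_⟩
      have h3 := hS g hg p₀
      rw [S_eq_empty.2 hp₀, S_eq_empty] at h3
      exact h3
    have h3 := Set.ncard_le_ncard h2 (Finset.finite_toSet _)
    rw [Set.ncard_coe_finset, hfixa] at h3
    exact h3
  have h2 := MulAction.card_orbit_mul_card_stabilizer_eq_card_group ↥B p₀
  have h3 : Nat.card ↥B = Nat.card ↥(MulAction.orbit ↥B p₀) * Nat.card ↥(MulAction.stabilizer ↥B p₀) := by
    rw [Nat.card_eq_fintype_card, Nat.card_eq_fintype_card, Nat.card_eq_fintype_card]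
    exact h2.symm
  rw [h3]
  exact (Nat.mul_le_mul horb hst)

end Pairs

/-! ### 2-central involutions -/

theorem fixed_of_central {a : Equiv.Perm GolayPt} (hM : a ∈ M24) (ha : a * a = 1) (h1 : a ≠ 1)
    (B : Subgroup M24) (hB : Nat.card ↥B = 2 ^ 10) (hBa : ∀ g ∈ B, g * ⟨a, hM⟩ = ⟨a, hM⟩ * g) :
    ∃ p : GolayPt, a p = p := by
  by_contra hno
  push Not at hno
  obtain ⟨g, hg⟩ := Cfsg.Agent.J4.M24Invol.invol_conj ⟨a, hM⟩ (Subtype.ext ha) (fun h => h1 (congrArg Subtype.val h))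
  have key : ∀ (v : M24), g * ⟨a, hM⟩ * g⁻¹ = v → ∀ p : GolayPt, v • p ≠ p := by
    intro v hv p hp
    rw [← hv, mul_smul, mul_smul] at hp
    have h2 : (⟨a, hM⟩ : M24) • g⁻¹ • p = g⁻¹ • p := by
      rw [← smul_left_cancel_iff g, smul_inv_smul]; exact hp
    exact hno _ h2
  rcases hg with hg | hg
  · have h2 : (Finset.univ.filter fun p : GolayPt => Cfsg.Agent.SporadicA.GolayBase.pt
        (Cfsg.Agent.SporadicA.GolayPerm.papp Cfsg.Agent.J4.M24InvolData.P1 (Cfsg.Agent.SporadicA.GolayBase.idx p)) = p).Nonempty := by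
      rw [← Finset.card_pos, fix_P1]; norm_num
    obtain ⟨p, hp⟩ := h2
    rw [Finset.mem_filter] at hp
    apply key _ hg p
    rw [Cfsg.Agent.SporadicStructure.M24El.el_smul_pt Cfsg.Agent.J4.M24Invol.ok_P1]
    exact hp.2
  · have h2 : B.map (MulAut.conj g).toMonoidHom ≤
        centralizer ({Cfsg.Agent.KFacts.M24Two.Count.w} : Set M24) := by
      rintro _ ⟨b, hb, rfl⟩
      rw [mem_centralizer_singleton_iff]
      show g * b * g⁻¹ * Cfsg.Agent.KFacts.M24Two.Count.w = Cfsg.Agent.KFacts.M24Two.Count.w * (g * b * g⁻¹)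
      have h3 : Cfsg.Agent.KFacts.M24Two.Count.w = g * ⟨a, hM⟩ * g⁻¹ := hg.symm
      rw [h3]
      calc g * b * g⁻¹ * (g * ⟨a, hM⟩ * g⁻¹) = g * (b * ⟨a, hM⟩) * g⁻¹ := by group
        _ = g * (⟨a, hM⟩ * b) * g⁻¹ := by rw [hBa b hb]
        _ = g * ⟨a, hM⟩ * g⁻¹ * (g * b * g⁻¹) := by group
    have h3 := Subgroup.card_dvd_of_le h2
    rw [Subgroup.card_map_of_injective (MulAut.conj g).injective, hB,
      Cfsg.Agent.KFacts.M24Two.Orders.card_centralizer_w] at h3
    revert h3
    norm_num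

end Cfsg.Agent.H7.J4Mod
end

-- part: H7/J4Bound
section
/-!
# Normal 2-subgroups of a Sylow 2-subgroup of `J4` (helper7)

`F` a frame of `K` (`J4`), `E = E hex0` of order `2^11`, `T ≤ N(E)` of order `2^21`.

* `card_cent_le`: `|C_E(n)| ≤ 2^7` for `n ∈ N(E)` inducing an involution of `M24`;
* `bound`: `U ≤ Z(R)`, `R ≤ T`, both normalized by `T`, `U` elementary abelian, `U ≰ E`: then `|R| ≤ 2^11`, and
  `|U| ≤ 2^8` or `|R| ≤ 2^9`.
-/

set_option autoImplicit false

namespace Cfsg.Agent.H7.J4Bound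

open Cfsg Subgroup Cfsg.Agent.J4Type Cfsg.Agent.H7.J4Mod
open Cfsg.Agent.H7.Faithful (exists_fixed_mod)
open scoped Pointwise

variable {K : Type*} [Group K]

/-- counting commutators -/
theorem mul_card_le [Finite K] (A : Subgroup K) (hA : IsElem2 A) {t : K} (ht : ∀ f ∈ A, t * f * t⁻¹ ∈ A)
    (s : Finset K) (hs : ∀ x ∈ s, ∃ f ∈ A, x = f * (t * f * t⁻¹)) :
    s.card * Nat.card ↥(A ⊓ centralizer ({t} : Set K)) ≤ Nat.card ↥A := by
  let φ : A →* K :=
    { toFun := fun f => f * (t * f * t⁻¹)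
      map_one' := by simp
      map_mul' := by
        intro a b
        push_cast
        have h1 := hA.2 _ (ht a a.2) b b.2
        calc (a : K) * b * (t * (a * b) * t⁻¹) = a * b * (t * a * t⁻¹) * (t * b * t⁻¹) := by group
          _ = a * (t * a * t⁻¹) * (b * (t * b * t⁻¹)) := by
            rw [mul_assoc (a : K) b, ← h1]; group }
  have hφ : ∀ f : A, φ f = f * (t * f * t⁻¹) := fun f => rfl
  have hker : Nat.card ↥(A ⊓ centralizer ({t} : Set K)) ≤ Nat.card φ.ker := by
    apply Nat.card_le_card_of_injective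
      (fun f : ↥(A ⊓ centralizer ({t} : Set K)) => (⟨⟨(f : K), f.2.1⟩, by
        rw [MonoidHom.mem_ker, hφ]
        have h1 := mem_centralizer_singleton_iff.1 f.2.2
        have h2 : t * (f : K) * t⁻¹ = f := by rw [← h1, mul_inv_cancel_right]
        show (f : K) * (t * (f : K) * t⁻¹) = 1
        rw [h2]
        exact hA.1 _ f.2.1⟩ : φ.ker))
    intro a b h
    exact Subtype.ext (congrArg (fun x : φ.ker => ((x : A) : K)) h)
  have hr : s.card ≤ Nat.card φ.range := by
    have h1 : (s : Set K) ⊆ (φ.range : Set K) := by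
      intro x hx
      obtain ⟨f, hf, rfl⟩ := hs x hx
      exact ⟨⟨f, hf⟩, rfl⟩
    have h2 := Set.ncard_le_ncard h1 (Set.toFinite _)
    rw [Set.ncard_coe_finset] at h2
    exact h2
  rw [← Subgroup.card_mul_index φ.ker, Subgroup.index_ker, mul_comm (Nat.card φ.ker)]
  exact Nat.mul_le_mul hr hker

variable (F : Frame K)

/-- the group `E` -/
abbrev EE : Subgroup K := F.E hex0

theorem EE_el : IsElem2 (EE F) := F.E_elem hex0 FusionConj.isHex_hex0

theorem EE_card : Nat.card ↥(EE F) = 2 ^ 11 := F.E_card hex0 FusionConj.isHex_hex0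

/-- the permutation induced by an element of `N(E)` -/
abbrev pp (n : normalizer (EE F : Set K)) : Equiv.Perm GolayPt := (F.π n : Equiv.Perm GolayPt)

theorem conj_ε (n : normalizer (EE F : Set K)) (x y : GolayPt) :
    (n : K) * F.ε (symmDiff {x} {y}) * (n : K)⁻¹ = F.ε (symmDiff {pp F n x} {pp F n y}) := by
  rw [F.π_smul n _ (CloseInst.even_pair x y), Finset.smul_finset_symmDiff, Finset.smul_finset_singleton,
    Finset.smul_finset_singleton]
  rfl

theorem even_symmDiff {S T : Finset GolayPt} (hS : Even S.card) (hT : Even T.card) : Even (symmDiff S T).card := by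
  rw [Nat.even_iff, DuadStab.card_symmDiff_parity]
  rw [Nat.even_iff] at hS hT
  omega

theorem comm_ε (n : normalizer (EE F : Set K)) (x y : GolayPt) :
    F.ε (symmDiff {x} {y}) * ((n : K) * F.ε (symmDiff {x} {y}) * (n : K)⁻¹) =
      F.ε (symmDiff (S (pp F n) x) (S (pp F n) y)) := by
  rw [conj_ε, ← F.ε_mul _ _ (CloseInst.even_pair _ _) (CloseInst.even_pair _ _)]
  congr 1
  unfold S
  exact symmDiff_symmDiff_symmDiff_comm _ _ _ _

theorem ε_S_inj {a : Equiv.Perm GolayPt} {x x' y : GolayPt}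
    (h : F.ε (symmDiff (S a x) (S a y)) = F.ε (symmDiff (S a x') (S a y))) : S a x = S a x' := by
  have h1 : symmDiff (symmDiff (S a x) (S a y)) (symmDiff (S a x') (S a y)) = symmDiff (S a x) (S a x') := by
    rw [symmDiff_comm (S a x') (S a y), symmDiff_assoc, ← symmDiff_assoc (S a y) (S a y), symmDiff_self,
      bot_symmDiff]
  have h2 := DuadUniq.ε_inj F (even_symmDiff (S_even a x) (S_even a y)) (even_symmDiff (S_even a x') (S_even a y))
    (by
      rw [h1]
      have h3 := Finset.card_le_card (Finset.symmDiff_subset_union (s := S a x) (t := S a x'))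
      have h4 := Finset.card_union_le (S a x) (S a x')
      have h5 := S_card_le a x
      have h6 := S_card_le a x'
      omega) h
  have h3 := congrArg (fun Z => symmDiff Z (S a y)) h2
  simpa [symmDiff_assoc] using h3

/-- the values of the commutator map -/
theorem card_values [DecidableEq K] (a : Equiv.Perm GolayPt) (y : GolayPt) (s : Finset GolayPt) :
    (s.image fun x => F.ε (symmDiff (S a x) (S a y))).card = (s.image (S a)).card := by
  have h1 : (s.image fun x => F.ε (symmDiff (S a x) (S a y))) =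
      (s.image (S a)).image fun Z => F.ε (symmDiff Z (S a y)) := by
    rw [Finset.image_image]; rfl
  rw [h1]
  apply Finset.card_image_of_injOn
  intro Z hZ Z' hZ' h
  obtain ⟨x, -, rfl⟩ := Finset.mem_image.1 (Finset.mem_coe.1 hZ)
  obtain ⟨x', -, rfl⟩ := Finset.mem_image.1 (Finset.mem_coe.1 hZ')
  exact ε_S_inj F h

theorem conj_mem_EE (n : normalizer (EE F : Set K)) {f : K} (hf : f ∈ EE F) : (n : K) * f * (n : K)⁻¹ ∈ EE F :=
  (mem_normalizer_iff.1 n.2 f).1 hf

theorem pow_of_dvd {m k : ℕ} (h : m ∣ 2 ^ k) {b : ℕ} (hlt : m < 2 ^ (b + 1)) : m ≤ 2 ^ b := by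
  obtain ⟨i, hi, rfl⟩ := (Nat.dvd_prime_pow Nat.prime_two).1 h
  have h1 : i < b + 1 := (Nat.pow_lt_pow_iff_right (by norm_num)).1 hlt
  exact Nat.pow_le_pow_right (by norm_num) (by omega)

/-- **`|C_E(n)| ≤ 2^7`** -/
theorem card_cent_le [Finite K] (n : normalizer (EE F : Set K)) (h2 : pp F n * pp F n = 1) (h1 : pp F n ≠ 1) :
    Nat.card ↥(EE F ⊓ centralizer ({(n : K)} : Set K)) ≤ 2 ^ 7 := by
  classical
  have hc := mul_card_le (EE F) (EE_el F) (t := (n : K)) (fun f hf => conj_mem_EE F n hf)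
    (Finset.univ.image fun x => F.ε (symmDiff (S (pp F n) x) (S (pp F n) none))) (by
      intro x hx
      obtain ⟨y, -, rfl⟩ := Finset.mem_image.1 hx
      exact ⟨F.ε (symmDiff {y} {none}), F.ε_mem _ (CloseInst.even_pair _ _), (comm_ε F n y none).symm⟩)
  rw [card_values, EE_card] at hc
  have h9 := nine_le (F.π n).2 h2 h1
  have hd : Nat.card ↥(EE F ⊓ centralizer ({(n : K)} : Set K)) ∣ 2 ^ 11 := by
    rw [← EE_card F]
    exact Subgroup.card_dvd_of_le inf_le_left
  refine pow_of_dvd hd ?_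
  have h3 := (Nat.mul_le_mul_right (Nat.card ↥(EE F ⊓ centralizer ({(n : K)} : Set K))) h9).trans hc
  omega

/-- two commuting elements -/
theorem card_cent_two_le [Finite K] (n m : normalizer (EE F : Set K)) (h2 : pp F n * pp F n = 1) (h1 : pp F n ≠ 1)
    {p₀ : GolayPt} (hp₀ : pp F n p₀ = p₀) (hmn : (m : K) * n = n * m) (hfree : ∀ p, pp F n p = p → pp F m p ≠ p) :
    Nat.card ↥(EE F ⊓ centralizer ({(n : K)} : Set K) ⊓ centralizer ({(m : K)} : Set K)) ≤ 2 ^ 5 := by
  classical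
  set A : Subgroup K := EE F ⊓ centralizer ({(n : K)} : Set K) with hA
  have hAel : IsElem2 A := ⟨fun a ha => (EE_el F).1 a ha.1, fun a ha b hb => (EE_el F).2 a ha.1 b hb.1⟩
  set s : Finset GolayPt := Finset.univ.filter fun p => pp F n p = p with hs
  have hc := mul_card_le A hAel (t := (m : K)) (fun f hf => by
      refine ⟨conj_mem_EE F m hf.1, ?_⟩
      have h3 := mem_centralizer_singleton_iff.1 hf.2
      refine mem_centralizer_singleton_iff.2 ?_
      have h4 : (m : K)⁻¹ * n = n * (m : K)⁻¹ := by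
        rw [inv_mul_eq_iff_eq_mul, ← mul_assoc, hmn, mul_inv_cancel_right]
      calc (m : K) * f * (m : K)⁻¹ * n = (m : K) * f * ((m : K)⁻¹ * n) := by group
        _ = (m : K) * (f * n) * (m : K)⁻¹ := by rw [h4]; group
        _ = (m : K) * n * f * (m : K)⁻¹ := by rw [h3]; group
        _ = n * ((m : K) * f * (m : K)⁻¹) := by rw [hmn]; group)
    (s.image fun x => F.ε (symmDiff (S (pp F m) x) (S (pp F m) p₀))) (by
      intro x hx
      obtain ⟨y, hy, rfl⟩ := Finset.mem_image.1 hx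
      have hy' : pp F n y = y := (Finset.mem_filter.1 hy).2
      refine ⟨F.ε (symmDiff {y} {p₀}), ⟨F.ε_mem _ (CloseInst.even_pair _ _), ?_⟩, (comm_ε F m y p₀).symm⟩
      refine mem_centralizer_singleton_iff.2 ?_
      have h3 := conj_ε F n y p₀
      rw [hy', hp₀] at h3
      exact (mul_inv_eq_iff_eq_mul.1 h3).symm)
  rw [card_values] at hc
  have h4 := card_le_image (a := pp F m) (s := s) (fun x hx => hfree x (Finset.mem_filter.1 hx).2)
  have h5 : s.card = 8 := FusionM22.card_fix (F.π n).2 h2 h1 hp₀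
  have h6 := card_cent_le F n h2 h1
  have hd : Nat.card ↥(A ⊓ centralizer ({(m : K)} : Set K)) ∣ 2 ^ 11 := by
    rw [← EE_card F]
    exact Subgroup.card_dvd_of_le (inf_le_left.trans inf_le_left)
  refine pow_of_dvd hd ?_
  have h7 : 4 ≤ (s.image (S (pp F m))).card := by omega
  have h8 := (Nat.mul_le_mul_right (Nat.card ↥(A ⊓ centralizer ({(m : K)} : Set K))) h7).trans hc
  have h9 : Nat.card ↥A ≤ 2 ^ 7 := h6
  have h10 : 4 * Nat.card ↥(A ⊓ centralizer ({(m : K)} : Set K)) ≤ 2 ^ 7 := h8.trans h9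
  omega

/-! ### images in `M24` -/

/-- the image of `X ≤ N(E)` in `M24` -/
def bar (X : Subgroup K) : Subgroup M24 := (X.subgroupOf (normalizer (EE F : Set K))).map F.π

theorem card_bar [Finite K] {X : Subgroup K} (hX : X ≤ normalizer (EE F : Set K)) :
    Nat.card ↥X = Nat.card ↥(X ⊓ EE F) * Nat.card ↥(bar F X) := by
  set f : ↥(X.subgroupOf (normalizer (EE F : Set K))) →* M24 :=
    F.π.comp (X.subgroupOf (normalizer (EE F : Set K))).subtype with hf
  have h1 : f.range = bar F X := by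
    rw [hf, MonoidHom.range_comp, range_subtype]; rfl
  have h2 : Nat.card ↥X = Nat.card ↥(X.subgroupOf (normalizer (EE F : Set K))) :=
    (Nat.card_congr (Subgroup.subgroupOfEquivOfLe hX).toEquiv).symm
  have h3 : Nat.card ↥(X ⊓ EE F) = Nat.card f.ker := by
    exact Nat.card_congr
      { toFun := fun x => ⟨⟨⟨x, hX x.2.1⟩, x.2.1⟩, MonoidHom.mem_ker.2 ((F.π_ker _).2 x.2.2)⟩
        invFun := fun y => ⟨((y.1.1 : normalizer (EE F : Set K)) : K), y.1.2,
          (F.π_ker _).1 (MonoidHom.mem_ker.1 y.2)⟩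
        left_inv := fun x => rfl
        right_inv := fun y => rfl }
  rw [h2, h3, ← h1, ← Subgroup.card_mul_index f.ker, Subgroup.index_ker]

theorem π_comm {x y : K} (hx : x ∈ normalizer (EE F : Set K)) (hy : y ∈ normalizer (EE F : Set K))
    (h : x * y * x⁻¹ * y⁻¹ ∈ EE F) : F.π ⟨x, hx⟩ * F.π ⟨y, hy⟩ = F.π ⟨y, hy⟩ * F.π ⟨x, hx⟩ := by
  have h1 : F.π (⟨x, hx⟩ * ⟨y, hy⟩ * ⟨x, hx⟩⁻¹ * ⟨y, hy⟩⁻¹) = 1 := (F.π_ker _).2 h
  rw [map_mul, map_mul, map_mul, map_inv, map_inv, mul_inv_eq_one, mul_inv_eq_iff_eq_mul] at h1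
  exact h1

/-- **The bound** -/
theorem bound [Finite K] {T R U : Subgroup K} (hTN : T ≤ normalizer (EE F : Set K)) (hTc : Nat.card ↥T = 2 ^ 21)
    (hET : EE F ≤ T) (hRT : R ≤ T) (hTR : T ≤ normalizer (R : Set K)) (hUR : U ≤ R)
    (hTU : T ≤ normalizer (U : Set K)) (hUel : IsElem2 U) (hRU : ∀ r ∈ R, ∀ u ∈ U, r * u = u * r)
    (hne : ¬ U ≤ EE F) : Nat.card ↥R ≤ 2 ^ 11 ∧ (Nat.card ↥U ≤ 2 ^ 8 ∨ Nat.card ↥R ≤ 2 ^ 9) := by
  classical
  have hf2 : Fact (Nat.Prime 2) := ⟨Nat.prime_two⟩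
  have hT2 : IsPGroup 2 ↥T := IsPGroup.of_card hTc
  obtain ⟨N, hNU, -, hNE, hNT⟩ := exists_fixed_mod (C := EE F) hT2 (hUR.trans hRT) hTU hne
  obtain ⟨u, huN, huE⟩ := SetLike.not_le_iff_exists.1 hNE
  have huU : u ∈ U := hNU huN
  have huR : u ∈ R := hUR huU
  have huT : u ∈ T := hRT huR
  set n : normalizer (EE F : Set K) := ⟨u, hTN huT⟩ with hn
  set a : Equiv.Perm GolayPt := pp F n with ha'
  have haM : a ∈ M24 := (F.π n).2
  have ha : a * a = 1 := by
    have h1 : F.π n * F.π n = 1 := by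
      rw [← map_mul, F.π_ker]
      show u * u ∈ F.E hex0
      rw [hUel.1 u huU]
      exact one_mem _
    exact congrArg Subtype.val h1
  have ha1 : a ≠ 1 := by
    intro h
    exact huE ((F.π_ker n).1 (Subtype.ext h))
  have hTa : ∀ (t : K) (ht : t ∈ T), F.π ⟨t, hTN ht⟩ * F.π n = F.π n * F.π ⟨t, hTN ht⟩ := by
    intro t ht
    apply Eq.symm
    apply π_comm
    apply hNT
    exact commutator_mem_commutator huN ht
  -- the image of `T`
  have hTbar : Nat.card ↥(bar F T) = 2 ^ 10 := by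
    have h1 := card_bar F hTN
    rw [inf_eq_right.2 hET, EE_card, hTc] at h1
    have h2 : (2 : ℕ) ^ 21 = 2 ^ 11 * 2 ^ 10 := by norm_num
    rw [h2] at h1
    exact (Nat.eq_of_mul_eq_mul_left (by norm_num) h1).symm
  obtain ⟨p₀, hp₀⟩ := fixed_of_central haM ha ha1 (bar F T) hTbar (by
    rintro _ ⟨t, ht, rfl⟩
    exact hTa t ht)
  -- elements of `R`
  have hRa : ∀ (r : K) (hr : r ∈ R), pp F ⟨r, hTN (hRT hr)⟩ * a = a * pp F ⟨r, hTN (hRT hr)⟩ := fun r hr =>
    congrArg Subtype.val (hTa r (hRT hr))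
  have hRS : ∀ (r : K) (hr : r ∈ R) (x : GolayPt), S a (pp F ⟨r, hTN (hRT hr)⟩ x) = S a x := by
    intro r hr x
    set ρ : normalizer (EE F : Set K) := ⟨r, hTN (hRT hr)⟩ with hρ
    have hg := hRa r hr
    -- `r` centralizes the commutator
    have h1 : r * F.ε (symmDiff (S a x) (S a p₀)) * r⁻¹ = F.ε (symmDiff (S a x) (S a p₀)) := by
      have h2 := comm_ε F n x p₀
      rw [← h2]
      set e : K := F.ε (symmDiff {x} {p₀}) with he
      have heE : e ∈ EE F := F.ε_mem _ (CloseInst.even_pair _ _)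
      show r * (e * (u * e * u⁻¹)) * r⁻¹ = e * (u * e * u⁻¹)
      have hfE : r * e * r⁻¹ * e⁻¹ ∈ EE F := mul_mem (conj_mem_EE F ρ heE) (inv_mem heE)
      have hfR : r * e * r⁻¹ * e⁻¹ ∈ R := by
        have h3 := (mem_normalizer_iff.1 (hTR (hET heE)) r⁻¹).1 (inv_mem hr)
        have e1 : r * e * r⁻¹ * e⁻¹ = r * (e * r⁻¹ * e⁻¹) := by group
        rw [e1]
        exact mul_mem hr h3
      set f : K := r * e * r⁻¹ * e⁻¹ with hf
      have h3 : r * e * r⁻¹ = f * e := by rw [hf, inv_mul_cancel_right]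
      have h4 : r * u = u * r := hRU r hr u huU
      have h5 : f * u = u * f := hRU f hfR u huU
      have h6 : r⁻¹ * u = u * r⁻¹ := by
        rw [inv_mul_eq_iff_eq_mul, ← mul_assoc, h4, mul_inv_cancel_right]
      have h7 : u⁻¹ * r⁻¹ = r⁻¹ * u⁻¹ := by
        have := congrArg (fun z => z⁻¹) h4
        simpa [mul_inv_rev] using this
      have hee : u * e * u⁻¹ ∈ EE F := conj_mem_EE F n heE
      calc r * (e * (u * e * u⁻¹)) * r⁻¹ = (r * e * r⁻¹) * ((r * u) * e * (u⁻¹ * r⁻¹)) := by group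
        _ = (r * e * r⁻¹) * (u * (r * e * r⁻¹) * u⁻¹) := by rw [h4, h7]; group
        _ = f * e * ((u * f) * e * u⁻¹) := by rw [h3]; group
        _ = f * e * f * (u * e * u⁻¹) := by rw [← h5]; group
        _ = e * f * f * (u * e * u⁻¹) := by rw [(EE_el F).2 f hfE e heE]
        _ = e * (f * f) * (u * e * u⁻¹) := by group
        _ = e * (u * e * u⁻¹) := by rw [(EE_el F).1 f hfE, mul_one]
    have h2 : r * F.ε (symmDiff (S a x) (S a p₀)) * r⁻¹ =
        F.ε (symmDiff (S a (pp F ρ x)) (S a (pp F ρ p₀))) := by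
      have h3 := F.π_smul ρ _ (even_symmDiff (S_even a x) (S_even a p₀))
      rw [Finset.smul_finset_symmDiff] at h3
      have h4 : (F.π ρ : Equiv.Perm GolayPt) • S a x = S a (pp F ρ x) := smul_S hg x
      have h5 : (F.π ρ : Equiv.Perm GolayPt) • S a p₀ = S a (pp F ρ p₀) := smul_S hg p₀
      rw [h4, h5] at h3
      exact h3
    have h3 : S a (pp F ρ p₀) = S a p₀ := by
      rw [S_eq_empty.2 hp₀, S_eq_empty, ← Equiv.Perm.mul_apply, ← hg, Equiv.Perm.mul_apply, hp₀]
    rw [h2, h3] at h1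
    exact ε_S_inj F h1
  have hRN : R ≤ normalizer (EE F : Set K) := hRT.trans hTN
  -- the image of `R`
  have hRbar : Nat.card ↥(bar F R) ≤ 16 := by
    have h1 : Nat.card ↥(bar F R) = Nat.card ↥((bar F R).map M24.subtype) :=
      (Subgroup.card_map_of_injective M24.subtype_injective).symm
    rw [h1]
    refine card_le haM ha ha1 hp₀ ((bar F R).map M24.subtype) (map_subtype_le _) ?_ ?_ ?_
    · have h2 : IsPGroup 2 ↥R := hT2.to_le hRT
      exact ((h2.comap_of_injective (normalizer (EE F : Set K)).subtype (subtype_injective _)).map F.π).map M24.subtype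
    · rintro _ ⟨_, ⟨r, hr, rfl⟩, rfl⟩
      exact hRa r hr
    · rintro _ ⟨_, ⟨r, hr, rfl⟩, rfl⟩ x
      exact hRS r hr x
  have hRE1 : R ⊓ EE F ≤ EE F ⊓ centralizer ({(n : K)} : Set K) := by
    rintro x ⟨hx1, hx2⟩
    exact ⟨hx2, mem_centralizer_singleton_iff.2 (hRU x hx1 u huU)⟩
  have hREc : Nat.card ↥(R ⊓ EE F) ≤ 2 ^ 7 :=
    (Subgroup.card_le_of_le hRE1).trans (card_cent_le F n ha ha1)
  have hRc := card_bar F hRN
  refine ⟨?_, ?_⟩
  · rw [hRc]
    calc _ ≤ 2 ^ 7 * 16 := Nat.mul_le_mul hREc hRbar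
      _ = 2 ^ 11 := by norm_num
  by_cases hcase : ∀ v (hv : v ∈ U), pp F ⟨v, hTN (hRT (hUR hv))⟩ = 1 ∨ pp F ⟨v, hTN (hRT (hUR hv))⟩ = a
  · left
    have hUc := card_bar F (hUR.trans hRN)
    have h1 : Nat.card ↥(bar F U) ≤ 2 := by
      have h2 : (bar F U : Set M24) ⊆ (({1, F.π n} : Finset M24) : Set M24) := by
        rintro _ ⟨v, hv, rfl⟩
        rw [Finset.coe_insert, Finset.coe_singleton]
        rcases hcase v hv with h | h
        · exact Or.inl (Subtype.ext h)
        · exact Or.inr (Subtype.ext h)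
      have h3 := Set.ncard_le_ncard h2 (Finset.finite_toSet _)
      rw [Set.ncard_coe_finset] at h3
      exact h3.trans Finset.card_le_two
    have h2 : Nat.card ↥(U ⊓ EE F) ≤ 2 ^ 7 :=
      (Subgroup.card_le_of_le (inf_le_inf_right _ hUR)).trans hREc
    rw [hUc]
    calc _ ≤ 2 ^ 7 * 2 := Nat.mul_le_mul h2 h1
      _ = 2 ^ 8 := by norm_num
  · right
    push Not at hcase
    obtain ⟨v, hv, hv1, hva⟩ := hcase
    set m : normalizer (EE F : Set K) := ⟨v, hTN (hRT (hUR hv))⟩ with hm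
    have hb : pp F m * pp F m = 1 := by
      have h1 : F.π m * F.π m = 1 := by
        rw [← map_mul, F.π_ker]
        show v * v ∈ F.E hex0
        rw [hUel.1 v hv]
        exact one_mem _
      exact congrArg Subtype.val h1
    have hfree : ∀ p, pp F n p = p → pp F m p ≠ p := by
      intro p hp hmp
      rcases eq_of_fix haM ha ha1 hp (F.π m).2 (k := 1) (by rw [pow_one, pow_two]; exact hb) (hRa v (hUR hv))
        (hRS v (hUR hv)) hmp with h | h
      · exact hv1 h
      · exact hva h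
    have h1 := card_cent_two_le F n m ha ha1 hp₀ (hUel.2 v hv u huU) hfree
    have h2 : R ⊓ EE F ≤ EE F ⊓ centralizer ({(n : K)} : Set K) ⊓ centralizer ({(m : K)} : Set K) := by
      intro x hx
      exact ⟨hRE1 hx, mem_centralizer_singleton_iff.2 (hRU x hx.1 v hv)⟩
    have h3 := (Subgroup.card_le_of_le h2).trans h1
    rw [hRc]
    calc _ ≤ 2 ^ 5 * 16 := Nat.mul_le_mul h3 hRbar
      _ = 2 ^ 9 := by norm_num

end Cfsg.Agent.H7.J4Bound
end

-- part: H7/J4Weak
section
/-!
# `J4`: a Sylow 2-subgroup in `C(z) ∩ N(E)`, conjugates of `E`, elements of order 31 (helper7)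

* `exists_sylow`: a Sylow 2-subgroup `S ≤ N(E)` centralizing `z`;
* `le_normalizer`: if `E ≤ R ⊴ H`, `R ≤ T ≤ N(E) ∩ C(z)`, then `H ≤ N(E)`;
* `eq_one_of_31`: an element of order dividing 31 commuting with an involution conjugate to `z` or to a duad is trivial.
-/

set_option autoImplicit false

namespace Cfsg.Agent.H7.J4Weak

open Cfsg Subgroup Cfsg.Agent.J4Type Cfsg.Agent.H7.J4Mod Cfsg.Agent.H7.J4Bound
open scoped Pointwise

variable {K : Type*} [Group K] (F : Frame K)

/-! ### the Sylow 2-subgroup -/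

theorem exists_sylow [Finite K] : ∃ S : Sylow 2 K, (S : Subgroup K) ≤ normalizer (EE F : Set K) ∧
    ∀ x ∈ (S : Subgroup K), x * F.z = F.z * x := by
  have : Fact (Nat.Prime 2) := ⟨Nat.prime_two⟩
  have hQ2 : IsPGroup 2 ↥F.Q := IsPGroup.of_card F.Q_card
  obtain ⟨S, hS⟩ := hQ2.exists_le_sylow
  have hZ : ∀ y ∈ S, (∀ x ∈ S, x * y = y * x) → y = 1 ∨ y = F.z := by
    intro y _ hy
    exact F.Q_cent y fun q hq => (hy q (hS hq)).symm
  have hzS : F.z ∈ S := hS F.z_mem_Q
  have hcen : ∀ x ∈ S, x * F.z = F.z * x := by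
    have hnt : Nontrivial S := ⟨⟨⟨F.z, hzS⟩, 1, fun h => CloseInst.z_ne_one F (congrArg Subtype.val h)⟩⟩
    have := S.isPGroup'.center_nontrivial
    obtain ⟨⟨y, hy⟩, hy1⟩ := exists_ne (1 : Subgroup.center S)
    have hyc : ∀ x ∈ S, x * (y : K) = y * x := by
      intro x hx
      exact congrArg Subtype.val (Subgroup.mem_center_iff.1 hy ⟨x, hx⟩)
    rcases hZ y y.2 hyc with h | h
    · exact absurd (Subtype.ext (Subtype.ext h)) hy1
    · intro x hx
      rw [← h]
      exact hyc x hx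
  have hSc : (S : Subgroup K) ≤ centralizer ({F.z} : Set K) := fun x hx => mem_centralizer_singleton_iff.2 (hcen x hx)
  -- the image in `M22:2`
  set B : Subgroup (Equiv.Perm GolayPt) := ((S : Subgroup K).subgroupOf (centralizer ({F.z} : Set K))).map F.P with hB
  have hBP : ∀ g ∈ B, g ∈ M22d := by
    rintro _ ⟨x, -, rfl⟩
    rw [← F.P_range]; exact ⟨x, rfl⟩
  obtain ⟨O, hO, hOB⟩ := FusionM22.exists_hexad B (fun g hg => (hBP g hg).1)
    ((S.isPGroup'.comap_of_injective (centralizer ({F.z} : Set K)).subtype (subtype_injective _)).map F.P)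
    (fun g hg => ((Cfsg.Agent.J4Type.Aut22.mem_D22_iff _).1 (hBP g hg)).2)
  have hOh : IsHex O := by
    refine ⟨hO.1, ?_⟩
    intro x hx
    unfold base at hx
    rw [Finset.mem_insert, Finset.mem_singleton] at hx
    rcases hx with rfl | rfl
    · exact hO.2.1
    · exact hO.2.2
  obtain ⟨c, -, hc⟩ := FusionConj.exists_C_smul F.toHex hOh FusionConj.isHex_hex0
  have hcz : (c : K) * F.z = F.z * c := mem_centralizer_singleton_iff.1 c.2
  refine ⟨(c : K) • S, ?_, ?_⟩
  · intro x hx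
    have hx' : (c : K)⁻¹ * x * c ∈ (S : Subgroup K) := by
      have h1 : x ∈ MulAut.conj (c : K) • (S : Subgroup K) := hx
      rw [Subgroup.mem_pointwise_smul_iff_inv_smul_mem, ← map_inv] at h1
      have e : (MulAut.conj ((c : K)⁻¹)) • x = (c : K)⁻¹ * x * c := by
        show (c : K)⁻¹ * x * (c : K)⁻¹⁻¹ = _
        rw [inv_inv]
      rwa [e] at h1
    set s : centralizer ({F.z} : Set K) := ⟨(c : K)⁻¹ * x * c, hSc hx'⟩ with hs
    have h1 : F.P s • O = O := hOB _ ⟨s, hx', rfl⟩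
    have h2 : x = ((c * s * c⁻¹ : centralizer ({F.z} : Set K)) : K) := by
      show x = (c : K) * ((c : K)⁻¹ * x * c) * (c : K)⁻¹
      group
    rw [h2]
    apply CloseInst.mem_normalizer_of_P
    have hc' : F.P c • O = hex0 := hc
    rw [map_mul, map_mul, map_inv, mul_smul, mul_smul]
    have h3 : (F.P c)⁻¹ • hex0 = O := by rw [inv_smul_eq_iff, hc']
    rw [h3, h1, hc']
  · intro x hx
    have hx' : (c : K)⁻¹ * x * c ∈ (S : Subgroup K) := by
      have h1 : x ∈ MulAut.conj (c : K) • (S : Subgroup K) := hx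
      rw [Subgroup.mem_pointwise_smul_iff_inv_smul_mem, ← map_inv] at h1
      have e : (MulAut.conj ((c : K)⁻¹)) • x = (c : K)⁻¹ * x * c := by
        show (c : K)⁻¹ * x * (c : K)⁻¹⁻¹ = _
        rw [inv_inv]
      rwa [e] at h1
    have h1 := hcen _ hx'
    have h2 : (c : K)⁻¹ * F.z = F.z * (c : K)⁻¹ := by
      rw [inv_mul_eq_iff_eq_mul, ← mul_assoc, hcz, mul_inv_cancel_right]
    calc x * F.z = (c : K) * (((c : K)⁻¹ * x * c) * ((c : K)⁻¹ * F.z)) := by group
      _ = (c : K) * (((c : K)⁻¹ * x * c) * F.z) * (c : K)⁻¹ := by rw [h2]; group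
      _ = (c : K) * (F.z * ((c : K)⁻¹ * x * c)) * (c : K)⁻¹ := by rw [h1]
      _ = ((c : K) * F.z) * (c : K)⁻¹ * x := by group
      _ = F.z * x := by rw [hcz]; group

/-! ### conjugates of `E` -/

theorem cent_EE {g : K} (h : ∀ a ∈ EE F, g * a = a * g) : g ∈ EE F :=
  F.A_cent hex0 FusionConj.isHex_hex0 g fun a ha _ => h a ha

/-- if `E ≤ R ⊴ H`, `R ≤ T`, then `H` normalizes `E` -/
theorem le_normalizer [Finite K] {T R H : Subgroup K} (hTN : T ≤ normalizer (EE F : Set K))
    (hTz : ∀ x ∈ T, x * F.z = F.z * x) (hRT : R ≤ T) (hHR : H ≤ normalizer (R : Set K)) (hER : EE F ≤ R) :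
    H ≤ normalizer (EE F : Set K) := by
  classical
  intro h hh
  by_contra hcon
  have hex0' := FusionConj.isHex_hex0
  have hRh : ∀ x, x ∈ R ↔ h⁻¹ * x * h ∈ R := by
    intro x
    have h1 := mem_normalizer_iff.1 (hHR (inv_mem hh)) x
    rwa [inv_inv] at h1
  have hRh' : ∀ x, x ∈ R ↔ h * x * h⁻¹ ∈ R := fun x => mem_normalizer_iff.1 (hHR hh) x
  -- `z` lies in the conjugate
  have hz : h⁻¹ * F.z * h ∈ EE F := by
    apply cent_EE
    intro a ha
    have h1 : h * a * h⁻¹ ∈ R := (hRh' a).1 (hER ha)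
    have h2 := hTz _ (hRT h1)
    calc h⁻¹ * F.z * h * a = h⁻¹ * (F.z * (h * a * h⁻¹)) * h := by group
      _ = h⁻¹ * (h * a * h⁻¹ * F.z) * h := by rw [h2]
      _ = a * (h⁻¹ * F.z * h) := by group
  obtain ⟨O, hO, hOE⟩ := F.E_unique h hz
  have hne : O ≠ hex0 := by
    rintro rfl
    apply hcon
    rw [mem_normalizer_iff]
    intro a
    have h1 := hOE (h * a * h⁻¹)
    have e : h⁻¹ * (h * a * h⁻¹) * h = a := by group
    rw [e] at h1
    exact h1
  -- the intersection
  have hint : Nat.card ↥(EE F ⊓ F.E O) ≤ 8 := by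
    have h1 : base ⊆ hex0 ∩ O := Finset.subset_inter hex0'.2 hO.2
    have h2 := Finset.card_le_card h1
    have h3 : base.card = 2 := by decide
    rcases DuadM24.inter_card hex0'.1 hO.1 hne.symm (by omega) with h | h
    · rw [F.E_inf_two hex0 O hex0' hO h]; norm_num
    · rw [F.E_inf_eight hex0 O hex0' hO h]
  -- an element outside
  have hnle : ¬ F.E O ≤ EE F := by
    intro hle
    have h1 : EE F ⊓ F.E O = F.E O := inf_eq_right.2 hle
    rw [h1, F.E_card O hO] at hint
    norm_num at hint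
  obtain ⟨v, hvO, hvE⟩ := SetLike.not_le_iff_exists.1 hnle
  have hOR : ∀ x ∈ F.E O, x ∈ R := fun x hx => (hRh x).2 (hER ((hOE x).2 hx))
  set n : normalizer (EE F : Set K) := ⟨v, hTN (hRT (hOR v hvO))⟩ with hn
  have h1 : pp F n ≠ 1 := fun h => hvE ((F.π_ker n).1 (Subtype.ext h))
  have h2 : pp F n * pp F n = 1 := by
    have h3 : F.π n * F.π n = 1 := by
      rw [← map_mul, F.π_ker]
      show v * v ∈ F.E hex0
      rw [(F.E_elem O hO).1 v hvO]
      exact one_mem _
    exact congrArg Subtype.val h3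
  have h9 := nine_le (F.π n).2 h2 h1
  rw [← card_values F (pp F n) none] at h9
  have hsub : ((Finset.univ.image fun x => F.ε (symmDiff (S (pp F n) x) (S (pp F n) none)) : Finset K) : Set K) ⊆
      (EE F ⊓ F.E O : Subgroup K) := by
    intro y hy
    obtain ⟨x, -, rfl⟩ := Finset.mem_image.1 (Finset.mem_coe.1 hy)
    show F.ε (symmDiff (S (pp F n) x) (S (pp F n) none)) ∈ EE F ⊓ F.E O
    have h3 := comm_ε F n x none
    rw [← h3]
    set e : K := F.ε (symmDiff {x} {none}) with he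
    have heE : e ∈ EE F := F.ε_mem _ (CloseInst.even_pair _ _)
    refine ⟨mul_mem heE (conj_mem_EE F n heE), ?_⟩
    show e * (v * e * v⁻¹) ∈ F.E O
    have hei : e⁻¹ = e := inv_eq_of_mul_eq_one_left ((EE_el F).1 e heE)
    have h4 : e * (v * e * v⁻¹) = (e * v * e⁻¹) * v⁻¹ := by rw [hei]; group
    rw [h4]
    refine mul_mem ?_ (inv_mem hvO)
    -- `E ≤ R` normalizes `E O`
    have h5 : h⁻¹ * e * h ∈ normalizer (EE F : Set K) := hTN (hRT ((hRh e).1 (hER heE)))
    have h6 := (mem_normalizer_iff.1 h5 _).1 ((hOE v).2 hvO)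
    have e1 : h⁻¹ * e * h * (h⁻¹ * v * h) * (h⁻¹ * e * h)⁻¹ = h⁻¹ * (e * v * e⁻¹) * h := by group
    rw [e1] at h6
    exact (hOE _).1 h6
  have h3 := Set.ncard_le_ncard hsub (Set.toFinite _)
  rw [Set.ncard_coe_finset] at h3
  have h4 : ((EE F ⊓ F.E O : Subgroup K) : Set K).ncard = Nat.card ↥(EE F ⊓ F.E O) := rfl
  omega

/-! ### elements of order 31 -/

theorem not_dvd_M24 {g : M24} (h : g ^ 31 = 1) : g = 1 := by
  have h1 : orderOf g ∣ 31 := orderOf_dvd_of_pow_eq_one h
  have h2 : orderOf g ∣ Nat.card M24 := orderOf_dvd_natCard g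
  rcases (Nat.dvd_prime (by norm_num : Nat.Prime 31)).1 h1 with h3 | h3
  · exact orderOf_eq_one_iff.1 h3
  · exfalso
    rw [h3] at h2
    have h4 : Nat.card M24 = 244823040 := Cfsg.Agent.S0364.result
    rw [h4] at h2
    revert h2
    norm_num

theorem eq_one_of_pow {y : K} (h31 : y ^ 31 = 1) {m : ℕ} (hm : y ^ m = 1) (hc : Nat.Coprime 31 m) : y = 1 := by
  have h1 : orderOf y ∣ 31 := orderOf_dvd_of_pow_eq_one h31
  have h2 : orderOf y ∣ m := orderOf_dvd_of_pow_eq_one hm
  exact orderOf_eq_one_iff.1 (Nat.eq_one_of_dvd_coprimes hc h1 h2)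

theorem eq_one_of_comm_z {y : K} (h31 : y ^ 31 = 1) (hy : y * F.z = F.z * y) : y = 1 := by
  set c : centralizer ({F.z} : Set K) := ⟨y, mem_centralizer_singleton_iff.2 hy⟩ with hc
  have h1 : F.P c ∈ M22d := by rw [← F.P_range]; exact ⟨c, rfl⟩
  have h2 : F.P c ^ 31 = 1 := by
    rw [← map_pow]
    have : c ^ 31 = 1 := Subtype.ext h31
    rw [this, map_one]
  have h3 : F.P c = 1 := by
    have h4 := not_dvd_M24 (g := ⟨F.P c, h1.1⟩) (Subtype.ext h2)
    exact congrArg Subtype.val h4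
  obtain ⟨q, hq, i, hi⟩ := (F.P_ker c).1 h3
  have hi' : y = q * F.ρ ^ i := hi
  -- the group `Q ⟨ρ⟩`
  have hρQ : ∀ j : ℕ, ∀ q ∈ F.Q, F.ρ ^ j * q * (F.ρ ^ j)⁻¹ ∈ F.Q := by
    intro j q hq
    refine F.Q_conj _ ?_ q hq
    exact ((show Commute F.ρ F.z from F.ρ_comm).pow_left j).eq
  have hpow : ∀ k : ℕ, ∃ q' ∈ F.Q, y ^ k = q' * F.ρ ^ (i * k) := by
    intro k
    induction k with
    | zero => exact ⟨1, one_mem _, by simp⟩
    | succ k ih =>
      obtain ⟨q', hq', h⟩ := ih
      refine ⟨q' * (F.ρ ^ (i * k) * q * (F.ρ ^ (i * k))⁻¹), mul_mem hq' (hρQ _ q hq), ?_⟩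
      rw [pow_succ, h, hi', mul_add, mul_one, pow_add]
      group
  obtain ⟨q', hq', h3⟩ := hpow 3
  have h4 : F.ρ ^ (i * 3) = 1 := by
    rw [mul_comm, pow_mul]
    have : F.ρ ^ 3 = 1 := by
      have := pow_orderOf_eq_one F.ρ
      rwa [F.ρ_order] at this
    rw [this, one_pow]
  rw [h4, mul_one] at h3
  have hz2 : F.z * F.z = 1 := by
    have := pow_orderOf_eq_one F.z
    rwa [F.z_order, pow_two] at this
  have h5 : q' ^ 4 = 1 := by
    have h6 : q' ^ 4 = (q' * q') * (q' * q') := by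
      rw [show (4 : ℕ) = 1 + 1 + 1 + 1 by norm_num, pow_add, pow_add, pow_add, pow_one]; group
    rw [h6]
    rcases F.Q_sq q' hq' with h7 | h7
    · rw [h7, one_mul]
    · rw [h7, hz2]
  refine eq_one_of_pow h31 (m := 12) ?_ (by norm_num)
  rw [show (12 : ℕ) = 3 * 4 by norm_num, pow_mul, h3, h5]

theorem eq_one_of_comm_duad [Finite K] {p q : GolayPt} (hpq : p ≠ q) {y : K} (h31 : y ^ 31 = 1)
    (hy : y * F.ε {p, q} = F.ε {p, q} * y) : y = 1 := by
  have h1 := DuadCent.duad_cent F hpq hy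
  have h2 : F.π ⟨y, h1⟩ = 1 := not_dvd_M24 (by
    rw [← map_pow]
    have : (⟨y, h1⟩ : normalizer (F.E hex0 : Set K)) ^ 31 = 1 := Subtype.ext h31
    rw [this, map_one])
  have h3 : y ∈ EE F := (F.π_ker ⟨y, h1⟩).1 h2
  refine eq_one_of_pow h31 (m := 2) ?_ (by norm_num)
  rw [pow_two]
  exact (EE_el F).1 y h3

end Cfsg.Agent.H7.J4Weak
end
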